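import Groth.Agent.Agf.H601.MainInd
import Groth.Agent.Agf.H593.FinPair

/-!
# Grothendieck's theorem on maximal tori over a field, points form

* `hasTor`: `K ⊗ A` has a maximal torus defined over `k`;
* `exists_max_ge`: every torus defined over `k` is contained in a maximal torus defined over `k`.
-/

set_option autoImplicit false

universe u

open TensorProduct WithConv Cardinal
open Groth.Agent.Sga3B.RG
open Groth.Agent.Sga3B.RG.BcPt (ptL ptL_tmul extHom extHom_tmul extHom_surjective)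

namespace Groth.Agent.Agf.H601.GrothThm

variable {k K : Type u} [Field k] [Field K] [Algebra k K] [IsAlgClosed K]

/-- **Grothendieck's theorem**, connected groups. -/
theorem hasTor_of_isDomain [Algebra.IsAlgebraic k K] (A : Type u) [CommRing A] [HopfAlgebra k A]
    [Algebra.FiniteType k A] [IsDomain (K ⊗[k] A)] : HasTor k K A := by
  rcases finite_or_infinite k with h | h
  · let _ : Fintype k := Fintype.ofFinite k
    exact Groth.Agent.Agf.H593.FinPair.hasTor_of_finite k K A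
  · obtain ⟨n, hn⟩ := Cardinal.lt_aleph0.1 (trdeg_lt_aleph0_of_finiteType (R := k) (S := A))
    exact MainInd.main n A hn

variable {A : Type u} [CommRing A] [HopfAlgebra k A] [Algebra.FiniteType k A]

omit [IsAlgClosed K] [Algebra.FiniteType k A] in
/-- Subgroups defined over `k` of a closed subgroup defined over `k`. -/
lemma isDef_comap_sub {B : Type u} [CommRing B] [HopfAlgebra k B] {φ : A →ₐc[k] B}
    (hφ : Function.Surjective φ) {T : Subgroup (Pt K (K ⊗[k] A))}
    (hT : T ≤ (Pt.map (extHom K φ)).range)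
    (hd : IsDef k K (vanIdeal (T : Set (Pt K (K ⊗[k] A))))) :
    IsDef k K (vanIdeal (T.comap (Pt.map (extHom K φ)) : Set (Pt K (K ⊗[k] B)))) := by
  have h1 : vanIdeal (T.comap (Pt.map (extHom K φ)) : Set (Pt K (K ⊗[k] B))) =
      (vanIdeal (T : Set (Pt K (K ⊗[k] A)))).map
        (extHom K φ : K ⊗[k] A →ₐ[K] K ⊗[k] B) := by
    apply le_antisymm
    · intro b hb
      obtain ⟨a, rfl⟩ := extHom_surjective (L := K) hφ b
      apply Ideal.mem_map_of_mem (extHom K φ : K ⊗[k] A →ₐ[K] K ⊗[k] B)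
      intro h hh
      obtain ⟨g, rfl⟩ := hT hh
      exact hb g hh
    · rw [Ideal.map_le_iff_le_comap]
      intro a ha g hg
      exact ha _ hg
  have h2 : ((vanIdeal (T : Set (Pt K (K ⊗[k] A)))).comap (inc k K A)).map (inc k K A) =
    vanIdeal (T : Set (Pt K (K ⊗[k] A))) := hd
  rw [h1, ← h2, HopfQ.isDef_iff]
  refine ⟨((vanIdeal (T : Set (Pt K (K ⊗[k] A)))).comap (inc k K A)).map (φ : A →ₐ[k] B), ?_⟩
  apply le_antisymm
  · rw [Ideal.map_le_iff_le_comap, Ideal.map_le_iff_le_comap]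
    intro a ha
    exact Ideal.mem_map_of_mem (extHom K φ : K ⊗[k] A →ₐ[K] K ⊗[k] B)
      (Ideal.mem_map_of_mem (inc k K A) ha)
  · rw [Ideal.map_le_iff_le_comap, Ideal.map_le_iff_le_comap]
    intro a ha
    exact Ideal.mem_map_of_mem (inc k K B) (Ideal.mem_map_of_mem (φ : A →ₐ[k] B) ha)

/-- Connected groups. -/
theorem exists_max_ge_conn [Algebra.IsAlgebraic k K] [IsDomain (K ⊗[k] A)]
    {T : Subgroup (Pt K (K ⊗[k] A))}
    (hT : IsTorusSub T) (hd : IsDef k K (vanIdeal (T : Set (Pt K (K ⊗[k] A))))) :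
    ∃ T₂ : Subgroup (Pt K (K ⊗[k] A)), T ≤ T₂ ∧ IsMaxTorusSub T₂ ∧
      IsDef k K (vanIdeal (T₂ : Set (Pt K (K ⊗[k] A)))) := by
  set C := Subgroup.centralizer (T : Set (Pt K (K ⊗[k] A))) with hC
  have hCcl : IsCl (C : Set (Pt K (K ⊗[k] A))) := hC ▸ hT.isCl_centralizer
  have hCd := Groth.Agent.Agf.H609.GrothFix.isDef_centralizer hT hd
  obtain ⟨S, hS, hTS⟩ := hT.exists_isMaxTorusSub
  have hcomm : ∀ {S : Subgroup (Pt K (K ⊗[k] A))}, IsTorusSub S → T ≤ S → S ≤ C := by
    intro S hS hTS x hx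
    rw [hC, Subgroup.mem_centralizer_iff]
    intro y hy
    exact H609.MaxTorImg.commute_of_mem hS (hTS hy) hx
  have hSC : S ≤ idComp C := le_idComp hS.1.isConn (hcomm hS.1 hTS)
  obtain ⟨B, _, _, φ, hφ, hrange, hker, hkerK⟩ := HopfQ.exists_hopf (isCl_idComp C)
    (Groth.Agent.Agf.H609.GrothIdc.isDef_idComp hCcl hCd)
  have hconn : IsDomain (K ⊗[k] B) := by
    refine MainInd.isDomain_of_ker_isPrime (f := ((extHom K φ : K ⊗[k] A →ₐ[K] K ⊗[k] B) :
      K ⊗[k] A →+* K ⊗[k] B)) (extHom_surjective (L := K) hφ) ?_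
    have h1 : (RingHom.ker (extHom K φ : K ⊗[k] A →ₐ[K] K ⊗[k] B)).IsPrime := by
      rw [hkerK]
      exact isConn_idComp _
    exact h1
  have hft : Algebra.FiniteType k B := Algebra.FiniteType.of_surjective (φ : A →ₐ[k] B) hφ
  obtain ⟨T₀, hT₀, hT₀d⟩ := hasTor_of_isDomain (k := k) (K := K) B
  obtain ⟨h1, h2⟩ := MainInd.hasTor_of_sub (isCl_idComp C) hS hSC hφ hrange hT₀ hT₀d
  refine ⟨_, ?_, h1, h2⟩
  have hle : T₀.map (Pt.map (extHom K φ)) ≤ idComp C := by
    rw [← hrange]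
    rintro _ ⟨x, -, rfl⟩
    exact ⟨x, rfl⟩
  obtain ⟨g, hg, hgT⟩ := ConjTori.exists_conj_of_le_closed (isCl_idComp C) hS.1 hSC
    (fun S' hS' _ hle => hS.2 S' hS' hle) h1.1 hle (fun S' hS' _ hle => h1.2 S' hS' hle)
  intro t ht
  rw [← hgT]
  refine ⟨t, hTS ht, ?_⟩
  have h3 : g ∈ C := idComp_le hCcl (idComp_le (isCl_idComp C) hg)
  rw [hC, Subgroup.mem_centralizer_iff] at h3
  change g * t * g⁻¹ = t
  rw [← h3 t ht, mul_inv_cancel_right]

/-- **(PT)** Every torus defined over `k` is contained in a maximal torus defined over `k`. -/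
theorem exists_max_ge [Algebra.IsAlgebraic k K] [IsReduced (K ⊗[k] A)]
    {T : Subgroup (Pt K (K ⊗[k] A))}
    (hT : IsTorusSub T) (hd : IsDef k K (vanIdeal (T : Set (Pt K (K ⊗[k] A))))) :
    ∃ T₂ : Subgroup (Pt K (K ⊗[k] A)), T ≤ T₂ ∧ IsMaxTorusSub T₂ ∧
      IsDef k K (vanIdeal (T₂ : Set (Pt K (K ⊗[k] A)))) := by
  have htopcl : IsCl ((⊤ : Subgroup (Pt K (K ⊗[k] A))) : Set (Pt K (K ⊗[k] A))) :=
    fun _ _ => trivial
  have htop : IsDef k K (vanIdeal ((⊤ : Subgroup (Pt K (K ⊗[k] A))) : Set (Pt K (K ⊗[k] A)))) := by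
    rw [Subgroup.coe_top, vanIdeal_univ]
    exact HopfQ.isDef_bot
  obtain ⟨B, _, _, φ, hφ, hrange, hker, hkerK⟩ := HopfQ.exists_hopf
    (isCl_idComp (⊤ : Subgroup (Pt K (K ⊗[k] A))))
    (Groth.Agent.Agf.H609.GrothIdc.isDef_idComp htopcl htop)
  have hconn : IsDomain (K ⊗[k] B) := by
    refine MainInd.isDomain_of_ker_isPrime (f := ((extHom K φ : K ⊗[k] A →ₐ[K] K ⊗[k] B) :
      K ⊗[k] A →+* K ⊗[k] B)) (extHom_surjective (L := K) hφ) ?_
    have h1 : (RingHom.ker (extHom K φ : K ⊗[k] A →ₐ[K] K ⊗[k] B)).IsPrime := by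
      rw [hkerK]
      exact isConn_idComp _
    exact h1
  have hft : Algebra.FiniteType k B := Algebra.FiniteType.of_surjective (φ : A →ₐ[k] B) hφ
  have hs := extHom_surjective (L := K) hφ
  have hTr : ∀ {T : Subgroup (Pt K (K ⊗[k] A))}, IsTorusSub T →
      T ≤ (Pt.map (extHom K φ)).range := by
    intro T hT
    rw [hrange]
    exact le_idComp hT.isConn le_top
  have hTeq : (T.comap (Pt.map (extHom K φ))).map (Pt.map (extHom K φ)) = T := by
    rw [Subgroup.map_comap_eq, inf_eq_right.2 (hTr hT)]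
  have hT' : IsTorusSub (T.comap (Pt.map (extHom K φ))) := by
    rw [← isTorusSub_map_iff hs, hTeq]
    exact hT
  obtain ⟨T₂, h1, h2, h3⟩ := exists_max_ge_conn hT' (isDef_comap_sub hφ (hTr hT) hd)
  have h4 := (isMaxTorusSub_map_iff hs).1 h2
  refine ⟨T₂.map (Pt.map (extHom K φ)), ?_, ⟨h4.1, fun T' hT' hle => h4.2 T' hT' (hTr hT') hle⟩,
    HopfQ.isDef_map_sub hφ h3⟩
  rw [← hTeq]
  exact Subgroup.map_mono h1

omit [IsAlgClosed K] [Algebra.FiniteType k A] in
/-- The trivial group is defined over `k`. -/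
lemma isDef_triv : IsDef k K (vanIdeal ((⊥ : Subgroup (Pt K (K ⊗[k] A))) :
    Set (Pt K (K ⊗[k] A)))) := by
  rw [HopfQ.isDef_iff]
  refine ⟨RingHom.ker (Bialgebra.counitAlgHom k A), ?_⟩
  have key : ∀ z : K ⊗[k] A, z - algebraMap K _ (CoalgebraStruct.counit (R := K) z) ∈
      (RingHom.ker (Bialgebra.counitAlgHom k A)).map (inc k K A) := by
    intro z
    induction z with
    | zero => simp
    | add x y hx hy =>
      have := Ideal.add_mem _ hx hy
      rw [map_add, map_add]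
      convert this using 1
      ring
    | tmul c a =>
      have h1 : c ⊗ₜ[k] a - algebraMap K _ (CoalgebraStruct.counit (R := K) (c ⊗ₜ[k] a)) =
          algebraMap K _ c * inc k K A (a - algebraMap k A (CoalgebraStruct.counit (R := k) a)) := by
        rw [NonUnip.counit_tmul', map_mul, map_sub, AlgHom.commutes, mul_sub]
        congr 1
        · change _ = (c ⊗ₜ[k] (1 : A)) * ((1 : K) ⊗ₜ[k] a)
          rw [Algebra.TensorProduct.tmul_mul_tmul, mul_one, one_mul]
        · rw [mul_comm, ← IsScalarTower.algebraMap_apply]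
      rw [h1]
      apply Ideal.mul_mem_left
      apply Ideal.mem_map_of_mem
      rw [RingHom.mem_ker, map_sub, AlgHom.commutes]
      exact sub_self _
  apply le_antisymm
  · rw [Ideal.map_le_iff_le_comap]
    intro a ha g hg
    rw [SetLike.mem_coe, Subgroup.mem_bot] at hg
    subst hg
    rw [Pt.one_apply]
    refine (GenSpec.counit_one_tmul (K := k) (L := K) a).trans ?_
    have : CoalgebraStruct.counit (R := k) a = 0 := ha
    rw [this, map_zero]
  · intro z hz
    have h1 := key z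
    have h2 : CoalgebraStruct.counit (R := K) z = 0 := by
      have := hz 1 (Subgroup.one_mem _)
      rwa [Pt.one_apply] at this
    rwa [h2, map_zero, sub_zero] at h1

/-- **Grothendieck's theorem**, points form. -/
theorem hasTor [Algebra.IsAlgebraic k K] [IsReduced (K ⊗[k] A)] : HasTor k K A := by
  obtain ⟨T, -, h1, h2⟩ := exists_max_ge (k := k) (K := K) (A := A) isTorusSub_bot isDef_triv
  exact ⟨T, h1, h2⟩

end Groth.Agent.Agf.H601.GrothThm
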